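import Groth.Agent.H28Surf.CurveDecomp
import Groth.Agent.H28Surf.Pair
import Groth.Agent.H22Alg.NakaiPos
import Groth.Agent.H17.SuppTensor

/-!
# Curves and divisors on regular proper surfaces
-/

set_option autoImplicit false
set_option linter.style.haveILetI false
set_option linter.unusedSectionVars false
set_option backward.isDefEq.respectTransparency.types false
universe u

open CategoryTheory CategoryTheory.Limits AlgebraicGeometry Opposite TopologicalSpace
open Groth.Agent.H8Props.FieldDim (cdim)
open Groth.Agent.H28Int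
open Groth.Agent.H28Surf (IsCurve pr stalkId_gen stalkId_top exists_pow_span)

namespace Groth.Agent.H28Reg

variable {X : Scheme.{u}} (k : Type u) [Field k] [X.Over (Spec (CommRingCat.of k))]
  [IsProper (X ↘ Spec (CommRingCat.of k))] [IsIntegral X]
  (hreg : ∀ x : X, IsRegularLocalRing (X.presheaf.stalk x))

omit k [Field k] [X.Over (Spec (CommRingCat.of k))] [IsProper (X ↘ Spec (CommRingCat.of k))] in
/-- The generic point misses an effective Cartier divisor. -/
theorem genericPoint_notMem_of_isEffCartier {Z : X.IdealSheafData} (hZ : FGA.IsEffCartier Z) :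
    genericPoint X ∉ (Z.support : Set X) := by
  intro h
  obtain ⟨U, hU, a, ha, hI⟩ := hZ (genericPoint X)
  rw [SetLike.mem_coe, Scheme.IdealSheafData.mem_support_iff_of_mem hU, hI, Scheme.zeroLocus_span,
    Scheme.zeroLocus_singleton, Set.mem_compl_iff, SetLike.mem_coe] at h
  haveI : Nonempty ↥U.1 := ⟨⟨_, hU⟩⟩
  have hb : X.basicOpen a ≠ ⊥ := fun hb => nonZeroDivisors.ne_zero ha ((basicOpen_eq_bot_iff a).1 hb)
  obtain ⟨z, hz⟩ := Set.nonempty_iff_ne_empty.2 fun e : ((X.basicOpen a : X.Opens) : Set X) = ∅ =>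
    hb (Opens.ext e)
  exact h ((genericPoint_specializes z).mem_open (X.basicOpen a).2 hz)

omit k [Field k] [X.Over (Spec (CommRingCat.of k))] [IsProper (X ↘ Spec (CommRingCat.of k))] in
theorem genericPoint_notMem_support {C C' : X.IdealSheafData} (hC : IsCurve C) (hC' : IsCurve C') (hne : C ≠ C') :
    haveI := hC.int
    C.subschemeι (genericPoint C.subscheme) ∉ (C'.support : Set X) := by
  haveI := hC.int; haveI := hC'.int
  exact H28Surf.genericPoint_notMem_support hC.dim hC'.dim hne

include k hreg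

theorem isEffCartier_curve (hdim : topologicalKrullDim X = 2) {C : X.IdealSheafData} (hC : IsCurve C) :
    FGA.IsEffCartier C := by
  haveI := hC.int
  let f := X ↘ Spec (CommRingCat.of k)
  haveI : IsLocallyNoetherian X := LocallyOfFiniteType.isLocallyNoetherian f
  refine S1684.result X C ?_ fun x _ => ?_
  · let η := C.subschemeι (genericPoint C.subscheme)
    have hc : cdim η = ((1 : ℕ) : WithBot ℕ∞) := by
      show topologicalKrullDim (closure ({η} : Set X)) = _
      rw [hC.closure_gen, hC.dim]
      rfl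
    have h := H8Props.FieldDim.localDim_eq_stalk_add_cdim f η
    rw [H8Props.FieldDim.localDim_eq_dim_of_irreducible f η, hdim, hc] at h
    exact H8Props.FieldDim.withBot_nat_cancel (m := 1) h.symm
  · haveI := hreg x
    have hd : IsDomain (X.presheaf.stalk x) := H4Depth.isDomain_of_isRegularLocalRing _
    exact ⟨hd, H28Alg.ufd_of_regular _⟩

theorem isInvertible_curve (hdim : topologicalKrullDim X = 2) {C : X.IdealSheafData} (hC : IsCurve C) :
    PicF.IsInvertible (ClSub.idealMod C) :=
  H29Blow.isInvertible_of_isEffCartierIdeal C (isEffCartier_curve k hreg hdim hC)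

theorem isEffCartier_prod (hdim : topologicalKrullDim X = 2) (M : Multiset X.IdealSheafData)
    (hM : ∀ C ∈ M, IsCurve C) : FGA.IsEffCartier M.prod := by
  induction M using Multiset.induction with
  | empty => rw [Multiset.prod_zero]; exact H29Blow.isEffCartierIdeal_top
  | cons C M ih =>
    rw [Multiset.prod_cons]
    exact H28Vert.isEffCartierIdeal_mul (isEffCartier_curve k hreg hdim (hM C (Multiset.mem_cons_self C M)))
      (ih fun D hD => hM D (Multiset.mem_cons_of_mem hD))

/-- An effective divisor on a regular surface is a sum of curves. -/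
theorem exists_multiset (hdim : topologicalKrullDim X = 2) (Z : X.IdealSheafData) (hZ : FGA.IsEffCartier Z) :
    ∃ M : Multiset X.IdealSheafData, (∀ C ∈ M, IsCurve C) ∧ M.prod = Z := by
  classical
  haveI := H28Int.isNoetherian k (X := X)
  let f := X ↘ Spec (CommRingCat.of k)
  haveI := hreg
  haveI hdom : ∀ x : X, IsDomain (X.presheaf.stalk x) := fun x => inferInstance
  let Y : Set X := {ξ ∈ (Z.support : Set X) | ringKrullDim (X.presheaf.stalk ξ) ≤ 1}
  have hYf : Y.Finite := H28Contr.finite_codimOne Z.support.2 (genericPoint_notMem_of_isEffCartier hZ)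
  have hY1 : ∀ y ∈ Y, ringKrullDim (X.presheaf.stalk y) = 1 := fun y hy => by
    refine le_antisymm hy.2 (le_of_not_gt fun hlt => ?_)
    exact genericPoint_notMem_of_isEffCartier hZ (H28Contr.eq_genericPoint_of_dim_lt_one hlt ▸ hy.1)
  let C : X → X.IdealSheafData := fun y =>
    Scheme.IdealSheafData.vanishingIdeal (⟨closure {y}, isClosed_closure⟩ : Closeds X)
  have hCsupp : ∀ y, ((C y).support : Set X) = closure {y} := fun y => by
    rw [← Scheme.IdealSheafData.range_subschemeι, H17.range_vanishingIdeal_subschemeι]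
    rfl
  have hC : ∀ y ∈ Y, IsCurve (C y) := fun y hy => by
    refine ⟨H22Alg.isIntegral_vanishingIdeal_closure y, ?_⟩
    rw [hCsupp]
    have h := H8Props.FieldDim.localDim_eq_stalk_add_cdim f y
    rw [H8Props.FieldDim.localDim_eq_dim_of_irreducible f y, hdim, hY1 y hy] at h
    exact H8Props.FieldDim.withBot_nat_cancel (m := 1) (n := 1) ((add_comm _ _).trans h.symm)
  have hgenC : ∀ y (hy : y ∈ Y), haveI := (hC y hy).int
      (C y).subschemeι (genericPoint (C y).subscheme) = y := fun y hy => by
    haveI := (hC y hy).int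
    have h := (hC y hy).closure_gen
    rw [hCsupp] at h
    exact (isGenericPoint_def.2 h).eq (isGenericPoint_def.2 rfl)
  have he : ∀ y, ∃ e : ℕ, y ∈ Y → ∀ (V : X.affineOpens) (hyV : y ∈ V.1),
      H28Vert.stalkId Z V hyV = IsLocalRing.maximalIdeal _ ^ e := by
    intro y
    by_cases hy : y ∈ Y
    swap
    · exact ⟨0, fun h => absurd h hy⟩
    obtain ⟨V₀, hV₀, hyV₀, -⟩ := exists_isAffineOpen_mem_and_subset (U := (⊤ : X.Opens)) (x := y) trivial
    obtain ⟨g, hg0, hg⟩ := H28Vert.exists_gen_of_isEffCartierIdeal hZ y ⟨V₀, hV₀⟩ hyV₀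
    have hpr : (IsLocalRing.maximalIdeal (X.presheaf.stalk y)).IsPrincipal := by
      have h1 := IsRegularLocalRing.spanFinrank_maximalIdeal (R := X.presheaf.stalk y)
      rw [hY1 y hy] at h1
      have hfg : (IsLocalRing.maximalIdeal (X.presheaf.stalk y)).FG := IsNoetherian.noetherian _
      have hc : (IsLocalRing.maximalIdeal (X.presheaf.stalk y)).generators.ncard = 1 := by
        rw [Submodule.FG.generators_ncard hfg]; exact_mod_cast h1
      obtain ⟨π, hπ⟩ := Set.ncard_eq_one.1 hc
      exact ⟨π, by rw [← hπ, Submodule.span_generators]⟩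
    obtain ⟨e, he⟩ := exists_pow_span hg0 hpr
    exact ⟨e, fun _ V hyV => by rw [H28Vert.stalkId_congr Z V ⟨V₀, hV₀⟩ hyV hyV₀, hg, he]⟩
  choose e he using he
  let s := hYf.toFinset
  refine ⟨s.val.bind fun y => Multiset.replicate (e y) (C y), fun D hD => ?_, ?_⟩
  · obtain ⟨y, hy, hyD⟩ := Multiset.mem_bind.1 hD
    rw [Multiset.eq_of_mem_replicate hyD]
    exact hC y (hYf.mem_toFinset.1 hy)
  have hp : (s.val.bind fun y => Multiset.replicate (e y) (C y)).prod = ∏ y ∈ s, C y ^ e y := by
    rw [Multiset.prod_bind]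
    exact congrArg Multiset.prod (Multiset.map_congr rfl fun y _ => Multiset.prod_replicate _ _)
  rw [hp]
  have hufd : ∀ x : X, IsDomain (X.presheaf.stalk x) ∧ UniqueFactorizationMonoid (X.presheaf.stalk x) :=
    fun x => ⟨hdom x, H28Alg.ufd_of_regular _⟩
  have hPC : BlowUp.IsEffCartierIdeal (∏ y ∈ s, C y ^ e y) :=
    H28Vert.isEffCartierIdeal_prod s C (fun y hy => isEffCartier_curve k hreg hdim (hC y (hYf.mem_toFinset.1 hy))) e
  refine H28Vert.ext_of_height_one hufd _ _ (fun x V hx => H28Vert.exists_gen_of_isEffCartierIdeal hPC x V hx)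
    (fun x V hx => H28Vert.exists_gen_of_isEffCartierIdeal hZ x V hx) fun z V hz hd => ?_
  rw [H28Vert.stalkId_prod s]
  have hother : ∀ y ∈ s, y ≠ z → H28Vert.stalkId (C y) V hz = 1 := fun y hy hne => by
    rw [Ideal.one_eq_top]
    refine stalkId_top _ V hz fun h => ?_
    rw [hCsupp] at h
    have hlt := H28Contr.ringKrullDim_stalk_lt (specializes_iff_mem_closure.2 h) hne
    rw [hd, hY1 y (hYf.mem_toFinset.1 hy)] at hlt
    exact lt_irrefl _ hlt
  by_cases hzY : z ∈ Y
  · rw [Finset.prod_eq_single z (fun y hy hne => by rw [hother y hy hne, one_pow])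
      (fun h => absurd (hYf.mem_toFinset.2 hzY) h), he z hzY V hz]
    congr 1
    haveI := (hC z hzY).int
    have key : ∀ (w : X) (hw : w ∈ V.1), (C z).subschemeι (genericPoint (C z).subscheme) = w →
        H28Vert.stalkId (C z) V hw = IsLocalRing.maximalIdeal _ := by
      rintro w hw rfl
      exact stalkId_gen (C z) V hw
    exact key z hz (hgenC z hzY)
  · rw [Finset.prod_eq_one fun y hy => by
      rw [hother y hy fun h => hzY (h ▸ hYf.mem_toFinset.1 hy), one_pow]]
    rw [stalkId_top Z V hz fun h => hzY ⟨h, hd.le⟩, Ideal.one_eq_top]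


omit hreg in
/-- The pairing of a product of divisors is additive. -/
theorem pr_mul_left (hdim : topologicalKrullDim X = 2) {A B : X.IdealSheafData} (hA : FGA.IsEffCartier A)
    (hB : FGA.IsEffCartier B) {M : X.Modules} (hM : PicF.IsInvertible M) :
    pr k (ClSub.idealMod (A * B)) M = pr k (ClSub.idealMod A) M + pr k (ClSub.idealMod B) M := by
  obtain ⟨e⟩ := H28Vert.nonempty_idealMod_mul hA hB
  rw [← H28Surf.pr_congr_left k hM e]
  exact H28Surf.pr_tensor_left k hdim (H29Blow.isInvertible_of_isEffCartierIdeal A hA)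
    (H29Blow.isInvertible_of_isEffCartierIdeal B hB) hM

omit hreg in
theorem pr_top_left (hdim : topologicalKrullDim X = 2) {M : X.Modules} (hM : PicF.IsInvertible M) :
    pr k (ClSub.idealMod (⊤ : X.IdealSheafData)) M = 0 := by
  have h := pr_mul_left k hdim (H29Blow.isEffCartierIdeal_top (X := X)) (H29Blow.isEffCartierIdeal_top (X := X)) hM
  rw [Scheme.IdealSheafData.top_mul] at h
  omega

theorem pr_prod_left (hdim : topologicalKrullDim X = 2) (S : Multiset X.IdealSheafData) (hS : ∀ C ∈ S, IsCurve C)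
    {M : X.Modules} (hM : PicF.IsInvertible M) :
    pr k (ClSub.idealMod S.prod) M = (S.map fun C => pr k (ClSub.idealMod C) M).sum := by
  induction S using Multiset.induction with
  | empty =>
    rw [Multiset.prod_zero, Multiset.map_zero, Multiset.sum_zero]
    exact pr_top_left k hdim hM
  | cons C S ih =>
    have hS' : ∀ D ∈ S, IsCurve D := fun D hD => hS D (Multiset.mem_cons_of_mem hD)
    rw [Multiset.prod_cons, pr_mul_left k hdim (isEffCartier_curve k hreg hdim (hS C (Multiset.mem_cons_self C S)))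
      (isEffCartier_prod k hreg hdim S hS') hM, ih hS', Multiset.map_cons, Multiset.sum_cons]

omit hreg in
/-- Distinct curves meet nonnegatively, and positively when they meet. -/
theorem pr_curves_nonneg (hdim : topologicalKrullDim X = 2) {C J : X.IdealSheafData} (hC : IsCurve C) (hJ : IsCurve J)
    (hCi : PicF.IsInvertible (ClSub.idealMod C)) (hJi : PicF.IsInvertible (ClSub.idealMod J)) (hne : C ≠ J) :
    0 ≤ pr k (ClSub.idealMod C) (ClSub.idealMod J) ∧
      (((C.support : Set X) ∩ J.support).Nonempty → 0 < pr k (ClSub.idealMod C) (ClSub.idealMod J)) := by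
  haveI := hC.int
  haveI := H28Int.isNoetherian k (X := X)
  rw [← H28Surf.intNum_eq_pr k hdim hCi hJi, H28Surf.intNum_idealMod k hdim.le C hCi hJi]
  have hgen := genericPoint_notMem_support hC hJ hne
  have hY : topologicalKrullDim C.subscheme ≤ ((1 : ℕ) : WithBot ℕ∞) := ((H28Surf.dim_subscheme C).trans hC.dim).le
  let j := C.subschemeι
  refine ⟨H28Surf.D_idealMod_nonneg k j hY J hJi hgen, fun hmeet => ?_⟩
  letI : C.subscheme.Over (Spec (CommRingCat.of k)) := ⟨j ≫ (X ↘ Spec (CommRingCat.of k))⟩
  haveI : IsProper (C.subscheme ↘ Spec (CommRingCat.of k)) :=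
    inferInstanceAs (IsProper (j ≫ (X ↘ Spec (CommRingCat.of k))))
  obtain ⟨N', hN'', ⟨e⟩⟩ := H11Sym.exists_inverse hJi
  have hN' : PicF.IsInvertible N' := hN''
  let ν := ClSub.idealModι J
  have hν := H25Euler.isIso_stalk_idealModι J hgen
  show 0 < D k [ClSub.idealMod J] ((Coh.push j).obj (Coh.structureModule C.subscheme))
  rw [H28Vert.D_eq_euler_tensor k j hJi hN' (H10Coh.Tw.commIso _ _ ≪≫ e) ν hν]
  let E := (Coh.push j).obj (Coh.structureModule C.subscheme)
  have hO := H10Coh.isCoh_structureModule' X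
  have hQ : Coh.IsCoh (cokernel ν) := H10Coh.isCoh_cokernel _ (H11Ample.isCoh_of_isInvertible hJi).1 hO
  have hE : Coh.IsCoh E := LeadDev.isCoh_push_structure j
  let T := (DCoh.tensorBi (X := X)).obj E
  have hT : Coh.IsCoh (CohB1.tensorMod E (cokernel ν)) :=
    H10Coh.isCoh_of_iso (PreservesCokernel.iso T ν).symm
      (H10Coh.isCoh_cokernel (T.map ν) (H11Ample.isCoh_tensor hE hJi).1
        (H10Coh.isCoh_of_iso (H10Coh.Tw.rightUnitIso E).symm hE))
  have hs : CohB1.support (CohB1.tensorMod E (cokernel ν)) = (C.support : Set X) ∩ J.support := by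
    rw [H17.SuppTensor.support_tensor E (cokernel ν) hE.2 hQ.2, support_push_structure_eq j,
      H28Vert.support_cokernel_idealModι J, C.range_subschemeι]
  have hd : topologicalKrullDim (CohB1.support (CohB1.tensorMod E (cokernel ν))) < ((1 : ℕ) : WithBot ℕ∞) :=
    dim_lt_of_notMem (LeadDev.range_eq_closure j (ξ := j (genericPoint C.subscheme)) rfl).symm
      ((IsHomeomorph.topologicalKrullDim_eq _ j.isClosedEmbedding.isEmbedding.toHomeomorph.isHomeomorph).symm.le.trans hY)
      (H10Coh.isClosed_support _ hT.2) (fun x hx => C.range_subschemeι.ge (hs.le hx).1) fun h => hgen (hs.le h).2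
  obtain ⟨x, hx⟩ := hmeet
  refine (pos_of_ample k [] (by simp) _ hT ?_).2 ⟨x, hs.ge hx, ?_⟩
  · rcases hdim' : topologicalKrullDim (CohB1.support (CohB1.tensorMod E (cokernel ν))) with _ | n
    · exact bot_le
    · rw [hdim'] at hd
      have : n < ((0 + 1 : ℕ) : ℕ∞) := WithBot.coe_lt_coe.1 hd
      exact WithBot.coe_le_coe.2 (ENat.lt_natCast_add_one_iff.1 (by exact_mod_cast this))
  · simp only [List.length_nil, Nat.cast_zero]
    haveI : Nonempty (closure ({x} : Set X)) := ⟨⟨x, subset_closure rfl⟩⟩
    haveI : Nonempty (IrreducibleCloseds (closure ({x} : Set X))) :=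
      ⟨⟨closure {⟨x, subset_closure rfl⟩}, isIrreducible_singleton.closure, isClosed_closure⟩⟩
    exact Order.krullDim_nonneg

end Groth.Agent.H28Reg
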