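import Mathlib

/-!
# Positive vectors for matrices with nonnegative connected off-diagonal part
-/

set_option autoImplicit false

namespace Groth.Agent.H28Reg

variable {ι : Type*} [Fintype ι]

/-- The value of the matrix on a vector at an index. -/
abbrev mv (M : ι → ι → ℤ) (x : ι → ℤ) (i : ι) : ℤ := ∑ j, x j * M j i

theorem exists_pos_of_nonneg (M : ι → ι → ℤ) (hoff : ∀ i j, i ≠ j → 0 ≤ M i j)
    (hconn : ∀ J : Finset ι, J.Nonempty → J ≠ Finset.univ → ∃ i ∈ J, ∃ j ∉ J, 0 < M i j)
    (v : ι → ℤ) (hv : ∀ i, 0 ≤ mv M v i) (hne : ∃ i, 0 < mv M v i) (hpos : ∃ i, 0 < v i) :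
    ∃ x : ι → ℤ, (∀ i, 0 < x i) ∧ ∀ i, 0 < mv M x i := by
  classical
  -- the positive part
  let p : ι → ℤ := fun i => max (v i) 0
  have hp : ∀ i, 0 ≤ p i := fun i => le_max_right _ _
  have hpM : ∀ i, 0 ≤ mv M p i := by
    intro i
    by_cases hi : v i < 0
    · refine Finset.sum_nonneg fun j _ => ?_
      rcases eq_or_ne j i with rfl | hji
      · rw [show p j = 0 from max_eq_right hi.le, zero_mul]
      · exact mul_nonneg (hp j) (hoff j i hji)
    · refine (hv i).trans (Finset.sum_le_sum fun j _ => ?_)
      rcases eq_or_ne j i with rfl | hji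
      · rw [show p j = v j from max_eq_left (not_lt.1 hi)]
      · exact mul_le_mul_of_nonneg_right (le_max_left _ _) (hoff j i hji)
  have hpne : ∃ i, 0 < mv M p i := by
    by_contra hno
    push Not at hno
    obtain ⟨i₀, hi₀⟩ := hpos
    by_cases hall : ∀ i, 0 < v i
    · obtain ⟨i, hi⟩ := hne
      have heq : p = v := funext fun j => max_eq_left (hall j).le
      have := hno i
      rw [heq] at this
      omega
    · push Not at hall
      obtain ⟨i₁, hi₁⟩ := hall
      let J : Finset ι := {i | 0 < v i}
      obtain ⟨i, hiJ, j, hjJ, hij⟩ := hconn J ⟨i₀, by simp [J, hi₀]⟩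
        (fun h => by have := h.ge (Finset.mem_univ i₁); simp [J] at this; omega)
      simp only [J, Finset.mem_filter, Finset.mem_univ, true_and] at hiJ hjJ
      have hpj : p j = 0 := max_eq_right (not_lt.1 hjJ)
      have h1 : 0 < mv M p j := by
        refine Finset.sum_pos' (fun l _ => ?_) ⟨i, Finset.mem_univ i, ?_⟩
        · rcases eq_or_ne l j with rfl | hlj
          · rw [hpj, zero_mul]
          · exact mul_nonneg (hp l) (hoff l j hlj)
        · exact mul_pos (lt_of_lt_of_le hiJ (le_max_left _ _)) hij
      exact absurd (hno j) (not_le.2 h1)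
  -- spreading positivity
  have step : ∀ n : ℕ, ∃ x : ι → ℤ, (∀ i, 0 ≤ x i) ∧ (∀ i, 0 ≤ mv M x i) ∧
      ((Finset.univ.filter fun i => 0 < mv M x i) = Finset.univ ∨
        n < (Finset.univ.filter fun i => 0 < mv M x i).card) := by
    intro n
    induction n with
    | zero =>
      obtain ⟨i, hi⟩ := hpne
      exact ⟨p, hp, hpM, Or.inr (Finset.card_pos.2 ⟨i, by simp [hi]⟩)⟩
    | succ n ih =>
      obtain ⟨x, hx, hxM, hx'⟩ := ih
      let P := Finset.univ.filter fun i => 0 < mv M x i
      by_cases hP : P = Finset.univ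
      · exact ⟨x, hx, hxM, Or.inl hP⟩
      have hcard : n < P.card := hx'.resolve_left hP
      obtain ⟨i, hiP, j, hjP, hij⟩ := hconn P (Finset.card_pos.1 (by omega)) hP
      simp only [P, Finset.mem_filter, Finset.mem_univ, true_and] at hiP hjP
      let N : ℤ := |M i i| + 1
      have hN : 0 < N := by positivity
      let y : ι → ℤ := fun l => N * x l + if l = i then 1 else 0
      have hy : ∀ l, mv M y l = N * mv M x l + M i l := fun l => by
        simp only [mv, y, add_mul, Finset.sum_add_distrib, mul_assoc, ← Finset.mul_sum, ite_mul, one_mul, zero_mul,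
          Finset.sum_ite_eq', Finset.mem_univ, if_true]
      refine ⟨y, fun l => add_nonneg (mul_nonneg hN.le (hx l)) (by split_ifs <;> omega), fun l => ?_,
        Or.inr ?_⟩
      · rw [hy]
        rcases eq_or_ne i l with rfl | hil
        · have := neg_abs_le (M i i)
          nlinarith
        · exact add_nonneg (mul_nonneg hN.le (hxM l)) (hoff i l hil)
      · refine lt_of_lt_of_le (Nat.succ_lt_succ hcard) ((Finset.card_insert_of_notMem (s := P) (a := j) ?_).ge.trans
          (Finset.card_le_card fun l hl => ?_))
        · simp only [P, Finset.mem_filter, Finset.mem_univ, true_and]; exact hjP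
        · simp only [Finset.mem_filter, Finset.mem_univ, true_and, hy]
          rcases Finset.mem_insert.1 hl with rfl | hl
          · have := hxM l
            nlinarith
          · simp only [P, Finset.mem_filter, Finset.mem_univ, true_and] at hl
            rcases eq_or_ne i l with rfl | hil
            · have := neg_abs_le (M i i)
              nlinarith
            · exact add_pos_of_pos_of_nonneg (mul_pos hN hl) (hoff i l hil)
  obtain ⟨x, hx, hxM, hx'⟩ := step (Fintype.card ι)
  have hall : (Finset.univ.filter fun i => 0 < mv M x i) = Finset.univ :=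
    hx'.resolve_right (not_lt.2 (Finset.card_le_univ _))
  let N : ℤ := ∑ i, |∑ j, M j i| + 1
  refine ⟨fun i => N * x i + 1, fun i => ?_, fun i => ?_⟩
  · have := hx i
    have hN : 0 < N := by positivity
    positivity
  · have h1 : 0 < mv M x i := by
      have := hall.ge (Finset.mem_univ i)
      simpa using this
    have h2 : |∑ j, M j i| ≤ ∑ l, |∑ j, M j l| :=
      Finset.single_le_sum (f := fun l => |∑ j, M j l|) (fun _ _ => abs_nonneg _) (Finset.mem_univ i)
    have h3 : mv M (fun l => N * x l + 1) i = N * mv M x i + ∑ j, M j i := by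
      simp only [mv, add_mul, Finset.sum_add_distrib, mul_assoc, ← Finset.mul_sum, one_mul]
    rw [h3]
    have h4 := neg_abs_le (∑ j, M j i)
    have h5 : N = ∑ l, |∑ j, M j l| + 1 := rfl
    have h6 : N * 1 ≤ N * mv M x i := mul_le_mul_of_nonneg_left h1 (by linarith [abs_nonneg (∑ j, M j i)])
    linarith

end Groth.Agent.H28Reg
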