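import Groth.Agent.H28Reg.Basic
import Groth.Agent.H28Reg.Lin
import Groth.Agent.H11Div.UFDComplement
import Groth.Agent.H11Ample.Ample
import Groth.Agent.H12Pic.PicCurve.Section
import Groth.Agent.H25AbCube.DualInverse
import Groth.Agent.H22Alg.GlobalFunctions
import Groth.Agent.H22Alg.Nakai
import Groth.Agent.S7821

/-!
# An ample divisor supported on the complement of an affine open
-/

set_option autoImplicit false
set_option linter.style.haveILetI false
set_option linter.unusedSectionVars false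
set_option backward.isDefEq.respectTransparency.types false
universe u

open CategoryTheory CategoryTheory.Limits AlgebraicGeometry Opposite TopologicalSpace
open Groth.Agent.H8Props.FieldDim (cdim)
open Groth.Agent.H28Int
open Groth.Agent.H28Surf (IsCurve pr)

namespace Groth.Agent.H28Reg

section Modules

variable {X : Scheme.{u}}

/-- The middle four interchange of tensor products. -/
noncomputable def middleFour (A B C D : X.Modules) :
    CohB1.tensorMod (CohB1.tensorMod A B) (CohB1.tensorMod C D) ≅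
      CohB1.tensorMod (CohB1.tensorMod A C) (CohB1.tensorMod B D) :=
  H10Coh.Tw.assoc A B _ ≪≫ PicGrp.tensorModIso (Iso.refl A)
    ((H10Coh.Tw.assoc B C D).symm ≪≫ PicGrp.tensorModIso (H10Coh.Tw.commIso B C) (Iso.refl D) ≪≫
      H10Coh.Tw.assoc C B D) ≪≫ (H10Coh.Tw.assoc A C _).symm

theorem nonempty_idealMod_top : Nonempty (ClSub.idealMod (⊤ : X.IdealSheafData) ≅ Coh.structureModule X) := by
  have hT := H29Blow.isEffCartierIdeal_top (X := X)
  obtain ⟨e⟩ := H28Vert.nonempty_idealMod_mul hT hT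
  rw [Scheme.IdealSheafData.top_mul] at e
  obtain ⟨N, -, ⟨f₀⟩⟩ := H11Sym.exists_inverse (H29Blow.isInvertible_of_isEffCartierIdeal _ hT)
  let I := ClSub.idealMod (⊤ : X.IdealSheafData)
  let f : CohB1.tensorMod I N ≅ Coh.structureModule X := H10Coh.Tw.commIso I N ≪≫ f₀
  exact ⟨(H10Coh.Tw.rightUnitIso I).symm ≪≫ PicGrp.tensorModIso (Iso.refl I) f.symm ≪≫
    (H10Coh.Tw.assoc I I N).symm ≪≫ PicGrp.tensorModIso e (Iso.refl N) ≪≫ f⟩

/-- Powers of an inverse of an ideal. -/
theorem nonempty_pow_inverse {V : X.IdealSheafData} (hV : BlowUp.IsEffCartierIdeal V) {L : X.Modules}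
    (e : CohB1.tensorMod L (ClSub.idealMod V) ≅ Coh.structureModule X) : ∀ m : ℕ,
    BlowUp.IsEffCartierIdeal (V ^ m) ∧
      Nonempty (CohB1.tensorMod (CohB1.tensorPow L m) (ClSub.idealMod (V ^ m)) ≅ Coh.structureModule X)
  | 0 => by
    rw [pow_zero]
    obtain ⟨e₁⟩ := nonempty_idealMod_top (X := X)
    exact ⟨H29Blow.isEffCartierIdeal_top, ⟨H10Coh.Tw.leftUnitIso _ ≪≫ e₁⟩⟩
  | m + 1 => by
    obtain ⟨hm, ⟨em⟩⟩ := nonempty_pow_inverse hV e m
    rw [pow_succ]
    obtain ⟨eI⟩ := H28Vert.nonempty_idealMod_mul hm hV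
    exact ⟨H28Vert.isEffCartierIdeal_mul hm hV, ⟨PicGrp.tensorModIso (Iso.refl _) eI.symm ≪≫
      middleFour _ _ _ _ ≪≫ PicGrp.tensorModIso em e ≪≫ H10Coh.Tw.leftUnitIso _⟩⟩

/-- A section cuts out a divisor with complementary support and inverse ideal. -/
theorem exists_divisor_of_gen [IsIntegral X] {Q : X.Modules} (hQ : PicF.IsInvertible Q) (S : Γ(Q, ⊤))
    (hS : (H11Ample.gen Q S : Set X).Nonempty) :
    ∃ W : X.IdealSheafData, BlowUp.IsEffCartierIdeal W ∧
      (W.support : Set X) = (H11Ample.gen Q S : Set X)ᶜ ∧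
      Nonempty (CohB1.tensorMod Q (ClSub.idealMod W) ≅ Coh.structureModule X) := by
  let σ := H11Tilde.homOfGlobal Q S
  let W := H12Pic.PicCurve.zeroIdeal Q σ hQ
  have hval : ∀ y : X, H28Mero.sGerm Q σ y = Q.presheaf.germ ⊤ y trivial S := fun y => by
    rw [H28Mero.sGerm, H11Ample.val_homOfGlobal]
  have hcoef : ∀ x : X, ∃ (V : X.Opens) (hV : IsAffineOpen V) (c : Γ(X, V)), x ∈ V ∧
      W.ideal ⟨V, hV⟩ = Ideal.span {c} ∧ H11Ample.gen Q S ⊓ V = X.basicOpen c ∧
      ∀ y (hy : y ∈ V), H28Mero.zeroGerm Q σ y = Ideal.span {X.presheaf.germ V y hy c} := by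
    intro x
    obtain ⟨V, hV, hxV, -, e, c, he, hc⟩ := H28Mero.exists_section_coeff Q σ hQ ⊤ x trivial
    refine ⟨V, hV, c, hxV, H12Pic.PicCurve.zeroIdeal_ideal Q σ hQ hV he hc,
      H11Ample.gen_inf_eq_basicOpen he S c (TopCat.Presheaf.section_ext ⟨Q.presheaf, Q.isSheaf⟩ V _ _ fun y hy => ?_),
      fun y hy => H28Mero.zeroGerm_eq_span Q σ (he y hy) (hc y hy)⟩
    show Q.presheaf.germ V y hy _ = Q.presheaf.germ V y hy (c • e)
    rw [Q.presheaf.germ_res_apply, Mero.germ_smul, ← hval, hc y hy]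
  have hW : BlowUp.IsEffCartierIdeal W := fun x => by
    obtain ⟨V, hV, c, hxV, h1, h2, -⟩ := hcoef x
    refine ⟨⟨V, hV⟩, hxV, c, ?_, h1⟩
    haveI : Nonempty V := ⟨⟨x, hxV⟩⟩
    refine mem_nonZeroDivisors_of_ne_zero fun h0 => ?_
    obtain ⟨g, hg⟩ := hS
    have hη : genericPoint X ∈ H11Ample.gen Q S ⊓ V :=
      ⟨(genericPoint_specializes g).mem_open (H11Ample.gen Q S).2 hg, (genericPoint_specializes x).mem_open V.2 hxV⟩
    rw [h2, h0, Scheme.basicOpen_zero] at hη
    exact hη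
  refine ⟨W, hW, ?_, ?_⟩
  · ext y
    obtain ⟨V, hV, c, hyV, -, h2, h3⟩ := hcoef y
    rw [SetLike.mem_coe, H12Pic.PicCurve.zeroIdeal_support, h3 y hyV, Ne, Ideal.span_singleton_eq_top,
      ← X.mem_basicOpen c y hyV, ← h2]
    exact not_congr ⟨fun h => h.1, fun h => ⟨h, hyV⟩⟩
  · obtain ⟨N, hN, ⟨eN₀⟩⟩ := H11Sym.exists_inverse (H29Blow.isInvertible_of_isEffCartierIdeal W hW)
    let eN := H10Coh.Tw.commIso (ClSub.idealMod W) N ≪≫ eN₀
    obtain ⟨τ, hτ, hτr⟩ := H12Pic.PicCurve.exists_section_of_cartier W hW N hN eN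
    obtain ⟨e⟩ := H12Pic.PicCurve.nonempty_iso_of_zeroGerm_eq hQ hN
      (H12Pic.PicCurve.isRegularSection_of_cartier Q σ hQ hW) hτr fun y => by
        obtain ⟨V, hV, hyV, -, a, a', ha, hca⟩ := H28Mero.exists_section_coeff Q σ hQ ⊤ y trivial
        obtain ⟨V', hV', hyV', hle, b, b', hb, hcb⟩ := H28Mero.exists_section_coeff N τ hN V y hyV
        rw [H28Mero.zeroGerm_eq_span Q σ (ha y hyV) (hca y hyV), H28Mero.zeroGerm_eq_span N τ (hb y hyV') (hcb y hyV')]
        have h1 := H12Pic.PicCurve.zeroIdeal_ideal N τ hN hV' hb hcb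
        have h2 := H12Pic.PicCurve.zeroIdeal_ideal Q σ hQ hV' (e := Q.presheaf.map (homOfLE hle).op a) (fun z hz => by
            show Function.Bijective fun r : X.presheaf.stalk z => r • Q.presheaf.germ _ z hz (Q.presheaf.map (homOfLE hle).op a)
            rw [Q.presheaf.germ_res_apply]; exact ha z (hle hz))
          (c := X.presheaf.map (homOfLE hle).op a') (fun z hz => by
            rw [X.presheaf.germ_res_apply, Q.presheaf.germ_res_apply]
            exact hca z (hle hz))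
        rw [hτ] at h1
        change W.ideal _ = _ at h2
        rw [h1] at h2
        have h3 := congrArg (Ideal.map (X.presheaf.germ V' y hyV').hom) h2
        rw [Ideal.map_span, Ideal.map_span, Set.image_singleton, Set.image_singleton] at h3
        rw [X.presheaf.germ_res_apply] at h3
        exact h3.symm
    exact ⟨PicGrp.tensorModIso e (Iso.refl _) ≪≫ eN₀⟩

end Modules

variable {X : Scheme.{u}} (k : Type u) [Field k] [X.Over (Spec (CommRingCat.of k))]
  [IsProper (X ↘ Spec (CommRingCat.of k))] [IsIntegral X]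
  (hreg : ∀ x : X, IsRegularLocalRing (X.presheaf.stalk x)) (hdim : topologicalKrullDim X = 2)

include k in
/-- A divisor with trivial ideal is empty. -/
theorem support_eq_empty_of_trivial {T : X.IdealSheafData} (hT : BlowUp.IsEffCartierIdeal T)
    (e : ClSub.idealMod T ≅ Coh.structureModule X) : (T.support : Set X) = ∅ := by
  have hI := H29Blow.isInvertible_of_isEffCartierIdeal T hT
  let Dm := RefHull.dual (ClSub.idealMod T)
  let g : Γ(Dm, ⊤) := RefHull.ofHom (ClSub.idealModι T) ⊤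
  have hgen : H11Ample.gen Dm g = T.support.compl := H25AbCube.gen_ofHom hT
  obtain ⟨eD⟩ := H25AbCube.isInverseOf_dual hI
  let φ : Dm ≅ Coh.structureModule X :=
    (H10Coh.Tw.rightUnitIso Dm).symm ≪≫ PicGrp.tensorModIso (Iso.refl Dm) e.symm ≪≫ eD
  let h : Γ(X, ⊤) := φ.hom.app ⊤ g
  have h1 : H11Ample.gen (Coh.structureModule X) (φ.hom.app ⊤ g) ⊓ ⊤ = X.basicOpen h :=
    H11Ample.gen_inf_eq_basicOpen (H11Ample.isGen_one ⊤) _ h (by rw [H11Ample.smul_one_eq]; exact H10Coh.mres_self _ _ _)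
  rw [inf_top_eq, H11Ample.gen_iso, hgen] at h1
  have hne : h ≠ 0 := fun h0 => by
    have h2 : genericPoint X ∈ T.support.compl := genericPoint_notMem_of_isEffCartier hT
    rw [h1, h0, Scheme.basicOpen_zero] at h2
    exact h2
  haveI : ConnectedSpace X := inferInstance
  have hF : IsField Γ(X, ⊤) := H22Alg.GlobalFunctions.isField_of_universallyClosed (k := k) (X ↘ Spec (CommRingCat.of k))
  obtain ⟨h', hh'⟩ := hF.mul_inv_cancel hne
  rw [Scheme.basicOpen_of_isUnit X (IsUnit.of_mul_eq_one _ hh')] at h1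
  exact Set.eq_empty_of_forall_notMem fun x hx => absurd hx (show x ∈ T.support.compl from h1.ge trivial)

include k in
/-- The support of a product of ideals. -/
theorem support_prod (S : Multiset X.IdealSheafData) :
    (S.prod.support : Set X) = ⋃ C ∈ S, (C.support : Set X) := by
  induction S using Multiset.induction with
  | empty => simp [Multiset.prod_zero, Scheme.IdealSheafData.one_eq_top]
  | cons C S ih =>
    rw [Multiset.prod_cons, Scheme.IdealSheafData.support_mul, TopologicalSpace.Closeds.coe_sup, ih]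
    simp [Set.iUnion_or, Set.iUnion_union_distrib]

include k hreg hdim

/-- The Nakai criterion on a regular surface. -/
theorem isAmple_of_criterion {Dv : X.IdealSheafData} (hD : FGA.IsEffCartier Dv) {L : X.Modules}
    (hL : PicF.IsInvertible L) (e : CohB1.tensorMod L (ClSub.idealMod Dv) ≅ Coh.structureModule X)
    (hsq : 0 < pr k (ClSub.idealMod Dv) (ClSub.idealMod Dv))
    (hc : ∀ J : X.IdealSheafData, IsCurve J → 0 < pr k (ClSub.idealMod Dv) (ClSub.idealMod J)) :
    CohB1.IsAmple L := by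
  have hI := H29Blow.isInvertible_of_isEffCartierIdeal Dv hD
  refine H22Alg.Nakai.isAmple_of_pos k hL fun Z i _ _ d hd0 hd => ?_
  have hdle : topologicalKrullDim Z ≤ topologicalKrullDim X :=
    i.isClosedEmbedding.isEmbedding.isInducing.topologicalKrullDim_le
  rw [hd, hdim] at hdle
  have hd2 : d ≤ 2 := by exact_mod_cast hdle
  interval_cases d
  · obtain ⟨hJ, hJd⟩ := H22Alg.NakaiPos.ker_data i
    have hJc : IsCurve i.ker := ⟨hJ, by rw [hJd, hd]; rfl⟩
    have hJi := isInvertible_curve k hreg hdim hJc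
    have h := hc i.ker hJc
    have h1 := H28Surf.pr_inv_left k hdim hI hL hJi (H10Coh.Tw.commIso _ _ ≪≫ e)
    have h2 := H28Surf.intNum_idealMod k hdim.le i.ker hJi hL
    rw [H28Surf.intNum_eq_pr k hdim hJi hL, H28Surf.pr_symm k _ L] at h2
    rw [pow_one, neg_one_mul, List.replicate_one, ← h2, h1, neg_neg]
    exact h
  · haveI : Surjective i := ⟨by
      refine Set.range_eq_univ.1 ?_
      by_contra hne
      have hgen : genericPoint X ∉ Set.range i := fun h => hne
        ((genericPoint_spec X).mem_closed_set_iff i.isClosedEmbedding.isClosed_range |>.1 h |> Set.univ_subset_iff.1)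
      have hlt := dim_lt_of_notMem (C := Set.univ) (genericPoint_spec X) (n := 2)
        ((Topology.IsInducing.subtypeVal.topologicalKrullDim_le).trans hdim.le)
        i.isClosedEmbedding.isClosed_range (fun _ _ => trivial) hgen
      rw [← i.isClosedEmbedding.isEmbedding.toHomeomorph.isHomeomorph.topologicalKrullDim_eq, hd] at hlt
      exact lt_irrefl _ hlt⟩
    haveI := isIso_of_isClosedImmersion_of_surjective i
    have hk : i.ker = (𝟙 X : X ⟶ X).ker := by rw [i.ker_eq_bot_of_isIso, (𝟙 X : X ⟶ X).ker_eq_bot_of_isIso]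
    have hl2 : ∀ A ∈ List.replicate 2 L, PicF.IsInvertible A := fun A hA => List.eq_of_mem_replicate hA ▸ hL
    rw [hk, H22Alg.Nakai.D_quotMod_id k hl2 (by rw [List.length_replicate, hdim]; rfl), neg_one_sq, one_mul]
    show 0 < pr k L L
    rw [H28Surf.pr_inv_left k hdim hI hL hL (H10Coh.Tw.commIso _ _ ≪≫ e), H28Surf.pr_symm k _ L,
      H28Surf.pr_inv_left k hdim hI hL hI (H10Coh.Tw.commIso _ _ ≪≫ e), neg_neg]
    exact hsq

omit hreg in
/-- A curve in a proper surface is not inside an affine open. -/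
theorem not_subset_affine {U : X.Opens} (hU : IsAffineOpen U) {C : X.IdealSheafData} (hC : IsCurve C) :
    ¬ (C.support : Set X) ⊆ (U : Set X) := fun h => by
  haveI := hC.int
  have h0 := dim_le_zero_of_affine k C.subschemeι hU (C.range_subschemeι.le.trans h)
    (ξ := C.subschemeι (genericPoint C.subscheme))
    (LeadDev.range_eq_closure C.subschemeι (ξ := C.subschemeι (genericPoint C.subscheme)) rfl).symm
  rw [H8Props.FieldDim.cdim, hC.closure_gen, hC.dim] at h0
  exact absurd h0 (by decide)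

/-- **Goodman**: the complement of an affine open carries an ample effective divisor. -/
theorem exists_ample_complement (U : X.Opens) (hU : IsAffineOpen U) (hUne : (U : Set X).Nonempty) :
    ∃ I : X.IdealSheafData, BlowUp.IsEffCartierIdeal I ∧ (I.support : Set X) = (U : Set X)ᶜ ∧
      ∀ L : X.Modules, PicF.IsInvertible L → ClSub.IsInverseOf L (ClSub.idealMod I) → CohB1.IsAmple L := by
  classical
  let f := X ↘ Spec (CommRingCat.of k)
  haveI := H28Int.isNoetherian k (X := X)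
  haveI : X.IsSeparated := ⟨by
    rw [show terminal.from X = f ≫ terminal.from _ from terminal.hom_ext _ _]
    infer_instance⟩
  haveI : IsAffine (U : Scheme.{u}) := hU
  haveI : IsAffineHom U.ι := IsAffineHom.of_comp U.ι (terminal.from X)
  haveI : JacobsonSpace X := LocallyOfFiniteType.jacobsonSpace f
  have hηU : genericPoint X ∈ U := (genericPoint_specializes hUne.some).mem_open U.2 hUne.some_mem
  -- the reduced complement and its curves
  let V := Scheme.IdealSheafData.vanishingIdeal (⟨(U : Set X)ᶜ, U.isOpen.isClosed_compl⟩ : Closeds X)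
  have hV : BlowUp.IsEffCartierIdeal V := H11Div.isEffCartierIdeal_vanishingIdeal_compl U
    (U.2.dense hUne) fun x _ => by
      haveI := hreg x
      have hd : IsDomain (X.presheaf.stalk x) := H4Depth.isDomain_of_isRegularLocalRing _
      exact ⟨hd, H28Alg.ufd_of_regular _⟩
  have hVs : (V.support : Set X) = (U : Set X)ᶜ := Scheme.IdealSheafData.coe_support_vanishingIdeal _
  obtain ⟨SV, hSV, hSVp⟩ := exists_multiset k hreg hdim V hV
  let Cs := SV.toFinset
  let ι := {C : X.IdealSheafData // C ∈ Cs}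
  have hCs : ∀ i : ι, IsCurve i.1 := fun i => hSV _ (Multiset.mem_toFinset.1 i.2)
  have hCi : ∀ i : ι, PicF.IsInvertible (ClSub.idealMod i.1) := fun i => isInvertible_curve k hreg hdim (hCs i)
  have hcompl : (U : Set X)ᶜ = ⋃ i : ι, (i.1.support : Set X) := by
    rw [← hVs, ← hSVp, support_prod k]
    ext x
    simp [ι, Cs]
  let M : ι → ι → ℤ := fun i j => pr k (ClSub.idealMod i.1) (ClSub.idealMod j.1)
  have hoff : ∀ i j : ι, i ≠ j → 0 ≤ M i j := fun i j h =>
    (pr_curves_nonneg k hdim (hCs i) (hCs j) (hCi i) (hCi j) fun e => h (Subtype.ext e)).1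
  have hconn : ∀ J : Finset ι, J.Nonempty → J ≠ Finset.univ → ∃ i ∈ J, ∃ j ∉ J, 0 < M i j := by
    intro J hJ hJu
    have hc := (S7821.result k f hdim ⟨U, hU⟩ hUne).isPreconnected
    obtain ⟨i₀, hi₀⟩ := hJ
    obtain ⟨j₀, hj₀⟩ : ∃ j, j ∉ J := by
      by_contra h
      push Not at h
      exact hJu (Finset.eq_univ_of_forall h)
    let A : Set X := ⋃ i ∈ J, (i.1.support : Set X)
    let B : Set X := ⋃ i ∈ (Jᶜ : Finset ι), (i.1.support : Set X)
    have hne : ∀ i : ι, (i.1.support : Set X).Nonempty := fun i => by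
      haveI := (hCs i).int
      exact ⟨_, i.1.range_subschemeι.le ⟨genericPoint i.1.subscheme, rfl⟩⟩
    have hsubC : ∀ i : ι, (i.1.support : Set X) ⊆ (U : Set X)ᶜ := fun i => by
      rw [hcompl]; exact Set.subset_iUnion_of_subset i (le_refl _)
    obtain ⟨x, -, hxA, hxB⟩ := isPreconnected_closed_iff.1 hc A B
      (J.finite_toSet.isClosed_biUnion fun i _ => i.1.support.isClosed)
      ((Jᶜ).finite_toSet.isClosed_biUnion fun i _ => i.1.support.isClosed)
      (fun x hx => by
        change x ∈ (U : Set X)ᶜ at hx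
        rw [hcompl] at hx
        obtain ⟨i, hi⟩ := Set.mem_iUnion.1 hx
        by_cases h : i ∈ J
        · exact Or.inl (Set.mem_iUnion₂.2 ⟨i, h, hi⟩)
        · exact Or.inr (Set.mem_iUnion₂.2 ⟨i, Finset.mem_compl.2 h, hi⟩))
      ⟨_, hsubC i₀ (hne i₀).some_mem, Set.mem_iUnion₂.2 ⟨i₀, hi₀, (hne i₀).some_mem⟩⟩
      ⟨_, hsubC j₀ (hne j₀).some_mem, Set.mem_iUnion₂.2 ⟨j₀, Finset.mem_compl.2 hj₀, (hne j₀).some_mem⟩⟩
    obtain ⟨i, hi, hxi⟩ := Set.mem_iUnion₂.1 hxA
    obtain ⟨j, hj, hxj⟩ := Set.mem_iUnion₂.1 hxB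
    refine ⟨i, hi, j, Finset.mem_compl.1 hj, (pr_curves_nonneg k hdim (hCs i) (hCs j) (hCi i) (hCi j) fun e =>
      Finset.mem_compl.1 hj (Subtype.ext (p := (· ∈ Cs)) e ▸ hi)).2 ⟨x, hxi, hxj⟩⟩
  -- a function with zeros on `U`
  have hV' := H29Blow.isInvertible_of_isEffCartierIdeal V hV
  let L := RefHull.dual (ClSub.idealMod V)
  have hL : PicF.IsInvertible L := H8Props.DivisorSection.isInvertible_dual hV'
  obtain ⟨eL⟩ := H25AbCube.isInverseOf_dual hV'
  let s : Γ(CohB1.tensorPow L 1, ⊤) := H11Ample.spow (RefHull.ofHom (ClSub.idealModι V) ⊤) 1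
  let G := H11Ample.gen (CohB1.tensorPow L 1) s
  have hG : G = U := by
    show H11Ample.gen _ _ = U
    rw [H11Ample.gen_spow hL _ 1 one_pos, H25AbCube.gen_ofHom hV]
    ext x
    show x ∈ (V.support : Set X)ᶜ ↔ _
    rw [hVs, compl_compl]
  obtain ⟨x₀, hx₀U, hx₀⟩ : ∃ x ∈ (U : Set X), IsClosed ({x} : Set X) := by
    obtain ⟨x, hx, hxc⟩ := nonempty_inter_closedPoints hUne U.2.isLocallyClosed
    exact ⟨x, hx, hxc⟩
  have hx₀η : x₀ ≠ genericPoint X := fun h => by
    have hgs := genericPoint_spec X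
    rw [← h] at hgs
    have : (Set.univ : Set X) = {x₀} := hgs.def.symm.trans hx₀.closure_eq
    haveI : Subsingleton X := ⟨fun a b => (this.le (Set.mem_univ a)).trans (this.le (Set.mem_univ b)).symm⟩
    have h0 := topologicalKrullDim_zero_of_discreteTopology X
    rw [hdim] at h0
    exact absurd h0 (by decide)
  obtain ⟨g, hgx₀, hgne⟩ : ∃ g : Γ(X, G), x₀ ∉ X.basicOpen g ∧ (X.basicOpen g : Set X).Nonempty := by
    have hGa : IsAffineOpen G := hG ▸ hU
    have hxG : x₀ ∈ G := hG ▸ hx₀U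
    let P := hGa.primeIdealOf ⟨x₀, hxG⟩
    obtain ⟨g, hgP, hg0⟩ : ∃ g ∈ P.asIdeal, g ≠ 0 := by
      refine Submodule.exists_mem_ne_zero_of_ne_bot fun h => hx₀η ?_
      have hle : P.asIdeal ≤ (hGa.primeIdealOf ⟨genericPoint X, hG ▸ hηU⟩).asIdeal := by rw [h]; exact bot_le
      exact (((_root_.H29Blow.primeIdealOf_le_iff hGa _ _).1 hle).antisymm (genericPoint_specializes x₀)).eq
    refine ⟨g, fun h => ?_, Set.nonempty_iff_ne_empty.2 fun h => hg0 ((basicOpen_eq_bot_iff g).1 (Opens.ext h))⟩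
    have h1 : hGa.fromSpec P ∈ X.basicOpen g := by rw [hGa.fromSpec_primeIdealOf]; exact h
    have h2 : P ∈ hGa.fromSpec ⁻¹ᵁ X.basicOpen g := h1
    rw [hGa.fromSpec_preimage_basicOpen] at h2
    exact h2 hgP
  obtain ⟨m', S, hSg⟩ := H11Ample.exists_gen_eq_basicOpen hL 1 s g
  let m := (m' + 1) * 1
  have hQ : PicF.IsInvertible (CohB1.tensorPow L m) := H11Ample.isInvertible_tensorPow hL m
  have hgenS : (H11Ample.gen (CohB1.tensorPow L m) S : Set X) = X.basicOpen g := congrArg (fun O : X.Opens => (O : Set X)) hSg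
  obtain ⟨W, hW, hWs, ⟨eW⟩⟩ := exists_divisor_of_gen hQ S (hgenS ▸ hgne)
  obtain ⟨SW, hSW, hSWp⟩ := exists_multiset k hreg hdim W hW
  have hWI := H29Blow.isInvertible_of_isEffCartierIdeal W hW
  have hLV : ∀ {A : X.Modules}, PicF.IsInvertible A → pr k (ClSub.idealMod V) A = - pr k L A := fun {A} hA =>
    H28Surf.pr_inv_left k hdim hL hV' hA eL
  have hWA : ∀ {A : X.Modules}, PicF.IsInvertible A → pr k (ClSub.idealMod W) A = m * pr k (ClSub.idealMod V) A := by
    intro A hA
    rw [H28Surf.pr_inv_left k hdim hQ hWI hA eW, H28Surf.pr_pow_left k hdim hL hA, hLV hA, mul_neg]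
  -- splitting the divisor of the section
  have hcount : ∀ (T : Multiset X.IdealSheafData), (∀ C ∈ T, IsCurve C) → ∀ {A : X.Modules}, PicF.IsInvertible A →
      pr k (ClSub.idealMod T.prod) A = (∑ j : ι, (T.count j.1 : ℤ) * pr k (ClSub.idealMod j.1) A) +
        ((T.filter fun C => C ∉ Cs).map fun C => pr k (ClSub.idealMod C) A).sum := by
    intro T hT A hA
    rw [pr_prod_left k hreg hdim T hT hA]
    conv_lhs => rw [← Multiset.filter_add_not (fun C => C ∈ Cs) T, Multiset.map_add, Multiset.sum_add]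
    congr 1
    rw [Finset.sum_multiset_map_count, Finset.sum_coe_sort Cs fun j => (T.count j : ℤ) * pr k (ClSub.idealMod j) A]
    rw [Finset.sum_subset (s₂ := Cs) (fun C hC => (Multiset.mem_filter.1 (Multiset.mem_toFinset.1 hC)).2)
      (fun C _ hC => by rw [Multiset.count_eq_zero.2 (fun h => hC (Multiset.mem_toFinset.2 h)), zero_smul])]
    exact Finset.sum_congr rfl fun C hC => by rw [Multiset.count_filter_of_pos hC, nsmul_eq_mul]
  let O := SW.filter fun C => C ∉ Cs
  let v : ι → ℤ := fun j => (m : ℤ) * SV.count j.1 - SW.count j.1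
  have hmv : ∀ i : ι, mv M v i = (O.map fun C => pr k (ClSub.idealMod C) (ClSub.idealMod i.1)).sum := by
    intro i
    have h1 := hcount SV hSV (hCi i)
    have h2 := hcount SW hSW (hCi i)
    rw [show SV.filter (fun C => C ∉ Cs) = 0 from Multiset.filter_eq_nil.2 fun C hC h => h (Multiset.mem_toFinset.2 hC),
      Multiset.map_zero, Multiset.sum_zero, add_zero, hSVp] at h1
    rw [hSWp, hWA (hCi i), h1] at h2
    simp only [mv, M, v, sub_mul, Finset.sum_sub_distrib, mul_assoc, ← Finset.mul_sum]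
    rw [h2]
    ring
  have hO : ∀ C ∈ O, IsCurve C ∧ C ∉ Cs := fun C hC =>
    ⟨hSW C (Multiset.mem_filter.1 hC).1, (Multiset.mem_filter.1 hC).2⟩
  have hnon : ∀ C ∈ O, ∀ i : ι, 0 ≤ pr k (ClSub.idealMod C) (ClSub.idealMod i.1) := fun C hC i =>
    (pr_curves_nonneg k hdim (hO C hC).1 (hCs i) (isInvertible_curve k hreg hdim (hO C hC).1) (hCi i)
      fun e => (hO C hC).2 (e ▸ i.2)).1
  have hx₀W : x₀ ∈ (W.support : Set X) := by
    rw [hWs, hgenS]; exact hgx₀
  obtain ⟨D₀, hD₀, hx₀D₀⟩ : ∃ D ∈ O, x₀ ∈ (D.support : Set X) := by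
    rw [← hSWp, support_prod k] at hx₀W
    obtain ⟨D, hD, hxD⟩ := Set.mem_iUnion₂.1 hx₀W
    refine ⟨D, Multiset.mem_filter.2 ⟨hD, fun hDC => ?_⟩, hxD⟩
    exact hcompl.ge (Set.mem_iUnion.2 ⟨⟨D, hDC⟩, hxD⟩) hx₀U
  have hmeet : ∀ C : X.IdealSheafData, IsCurve C → C ∉ Cs →
      ∃ i : ι, 0 < pr k (ClSub.idealMod C) (ClSub.idealMod i.1) := by
    intro C hC hCn
    obtain ⟨y, hyC, hyU⟩ := Set.not_subset.1 (not_subset_affine k hdim hU hC)
    obtain ⟨i, hi⟩ := Set.mem_iUnion.1 (hcompl.le hyU)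
    exact ⟨i, (pr_curves_nonneg k hdim hC (hCs i) (isInvertible_curve k hreg hdim hC) (hCi i)
      fun e => hCn (e ▸ i.2)).2 ⟨y, hyC, hi⟩⟩
  have hv : ∀ i, 0 ≤ mv M v i := fun i => by
    rw [hmv]
    exact Multiset.sum_nonneg fun a ha => by
      obtain ⟨C, hC, rfl⟩ := Multiset.mem_map.1 ha
      exact hnon C hC i
  have hvne : ∃ i, 0 < mv M v i := by
    obtain ⟨i, hi⟩ := hmeet D₀ (hO D₀ hD₀).1 (hO D₀ hD₀).2
    refine ⟨i, ?_⟩
    rw [hmv, ← Multiset.cons_erase hD₀, Multiset.map_cons, Multiset.sum_cons]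
    refine add_pos_of_pos_of_nonneg hi (Multiset.sum_nonneg fun a ha => ?_)
    obtain ⟨C, hC, rfl⟩ := Multiset.mem_map.1 ha
    exact hnon C (Multiset.mem_of_mem_erase hC) i
  have hvpos : ∃ i, 0 < v i := by
    by_contra hall
    push Not at hall
    have hle : m • SV ≤ SW := by
      rw [Multiset.le_iff_count]
      intro C
      rw [Multiset.count_nsmul]
      by_cases hC : C ∈ Cs
      · have := hall ⟨C, hC⟩
        simp only [v] at this
        omega
      · rw [Multiset.count_eq_zero.2 fun h => hC (Multiset.mem_toFinset.2 h), mul_zero]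
        exact Nat.zero_le _
    obtain ⟨T, hT⟩ := Multiset.le_iff_exists_add.1 hle
    have hTc : ∀ C ∈ T, IsCurve C := fun C hC => hSW C (hT ▸ Multiset.mem_add.2 (Or.inr hC))
    have hTcart := isEffCartier_prod k hreg hdim T hTc
    obtain ⟨hm, ⟨em⟩⟩ := nonempty_pow_inverse hV eL m
    have hWeq : W = V ^ m * T.prod := by rw [← hSWp, hT, Multiset.prod_add, Multiset.prod_nsmul, hSVp]
    obtain ⟨eT⟩ := H28Vert.nonempty_idealMod_mul hm hTcart
    rw [← hWeq] at eT
    let Q := CohB1.tensorPow L m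
    have hempty := support_eq_empty_of_trivial k hTcart
      ((H10Coh.Tw.leftUnitIso _).symm ≪≫ PicGrp.tensorModIso em.symm (Iso.refl _) ≪≫
        H10Coh.Tw.assoc Q _ _ ≪≫ PicGrp.tensorModIso (Iso.refl Q) eT ≪≫ eW)
    have hD₀T : D₀ ∈ T := by
      have h := (Multiset.mem_filter.1 hD₀).1
      rw [hT] at h
      rcases Multiset.mem_add.1 h with h | h
      · exact absurd (Multiset.mem_toFinset.2 (Multiset.mem_of_mem_nsmul h)) (hO D₀ hD₀).2
      · exact h
    rw [support_prod k] at hempty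
    exact hempty.le (Set.mem_iUnion₂.2 ⟨D₀, hD₀T, hx₀D₀⟩)
  obtain ⟨x, hx, hxM⟩ := exists_pos_of_nonneg M hoff hconn v hv hvne hvpos
  -- the ample divisor
  let SD : Multiset X.IdealSheafData := ∑ i : ι, (x i).toNat • {i.1}
  have hSD : ∀ C ∈ SD, ∃ i : ι, C = i.1 := fun C hC => by
    obtain ⟨i, -, hi⟩ := Multiset.mem_sum.1 hC
    exact ⟨i, Multiset.mem_singleton.1 (Multiset.mem_of_mem_nsmul hi)⟩
  have hSDc : ∀ C ∈ SD, IsCurve C := fun C hC => by
    obtain ⟨i, rfl⟩ := hSD C hC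
    exact hCs i
  have hDcart := isEffCartier_prod k hreg hdim SD hSDc
  have hprD : ∀ {A : X.Modules}, PicF.IsInvertible A →
      pr k (ClSub.idealMod SD.prod) A = ∑ i : ι, x i * pr k (ClSub.idealMod i.1) A := fun {A} hA => by
    rw [pr_prod_left k hreg hdim SD hSDc hA]
    let φ : Multiset X.IdealSheafData →+ ℤ :=
      (Multiset.sumAddMonoidHom).comp (Multiset.mapAddMonoidHom fun C => pr k (ClSub.idealMod C) A)
    show φ SD = _
    simp only [SD, map_sum, map_nsmul]
    refine Finset.sum_congr rfl fun i _ => ?_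
    simp [φ, Int.toNat_of_nonneg (hx i).le]
  refine ⟨SD.prod, hDcart, ?_, fun N hN ⟨eN⟩ => isAmple_of_criterion k hreg hdim hDcart hN eN ?_ fun J hJ => ?_⟩
  · rw [support_prod k, hcompl]
    ext y
    simp only [Set.mem_iUnion]
    constructor
    · rintro ⟨C, hC, hy⟩
      obtain ⟨i, rfl⟩ := hSD C hC
      exact ⟨i, hy⟩
    · rintro ⟨i, hy⟩
      refine ⟨i.1, Multiset.mem_sum.2 ⟨i, Finset.mem_univ i, ?_⟩, hy⟩
      rw [Multiset.mem_nsmul]
      exact ⟨by have := hx i; omega, Multiset.mem_singleton_self _⟩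
  · have hDI := H29Blow.isInvertible_of_isEffCartierIdeal _ hDcart
    rw [hprD hDI]
    have hne : Nonempty ι := ⟨hvne.choose⟩
    refine Finset.sum_pos (fun i _ => mul_pos (hx i) ?_) Finset.univ_nonempty
    rw [H28Surf.pr_symm k, hprD (hCi i)]
    exact hxM i
  · rw [hprD (isInvertible_curve k hreg hdim hJ)]
    by_cases hJC : J ∈ Cs
    · exact hxM ⟨J, hJC⟩
    · obtain ⟨i, hi⟩ := hmeet J hJ hJC
      have hnn : ∀ j : ι, 0 ≤ pr k (ClSub.idealMod j.1) (ClSub.idealMod J) := fun j =>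
        (pr_curves_nonneg k hdim (hCs j) hJ (hCi j) (isInvertible_curve k hreg hdim hJ) fun e => hJC (e ▸ j.2)).1
      refine Finset.sum_pos' (fun j _ => mul_nonneg (hx j).le (hnn j)) ⟨i, Finset.mem_univ i, mul_pos (hx i) ?_⟩
      rw [H28Surf.pr_symm k]
      exact hi

end Groth.Agent.H28Reg
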