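import Groth.Agent.H28Reg.Boundary
import Groth.Agent.H19Grp.RegularSmooth
import Groth.Agent.H28Surf.Hodge

/-!
# Regular proper surfaces are projective, and consequences
-/

set_option autoImplicit false
set_option linter.style.haveILetI false
set_option linter.unusedSectionVars false
set_option backward.isDefEq.respectTransparency.types false
universe u

open CategoryTheory CategoryTheory.Limits AlgebraicGeometry Opposite TopologicalSpace
open Groth.Agent.H28Int
open Groth.Agent.H28Surf (IsCurve pr)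

namespace Groth.Agent.H28Reg

variable {X : Scheme.{u}} (k : Type u) [Field k] [X.Over (Spec (CommRingCat.of k))]
  [IsProper (X ↘ Spec (CommRingCat.of k))] [IsIntegral X]

include k in
/-- A regular proper surface has an ample invertible module. -/
theorem exists_isAmple (hreg : ∀ x : X, IsRegularLocalRing (X.presheaf.stalk x))
    (hdim : topologicalKrullDim X = 2) : ∃ H : X.Modules, CohB1.IsAmple H := by
  obtain ⟨U, hU, hη, -⟩ := exists_isAffineOpen_mem_and_subset (U := (⊤ : X.Opens)) (x := genericPoint X) trivial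
  obtain ⟨I, hI, -, hamp⟩ := exists_ample_complement k hreg hdim U hU ⟨_, hη⟩
  have hI' := H29Blow.isInvertible_of_isEffCartierIdeal I hI
  exact ⟨RefHull.dual (ClSub.idealMod I),
    hamp _ (H8Props.DivisorSection.isInvertible_dual hI') (H25AbCube.isInverseOf_dual hI')⟩

/-- A nonzero effective divisor meets an ample module positively. -/
theorem pr_eff_ample_pos (hreg : ∀ x : X, IsRegularLocalRing (X.presheaf.stalk x)) (hdim : topologicalKrullDim X = 2)
    {Dv : X.IdealSheafData} (hD : FGA.IsEffCartier Dv) (hne : Dv ≠ ⊤) {H H' : X.Modules} (hH : CohB1.IsAmple H)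
    (hH' : PicF.IsInvertible H') (e : CohB1.tensorMod H H' ≅ Coh.structureModule X) :
    0 < pr k (ClSub.idealMod Dv) H' := by
  haveI := H28Int.isNoetherian k (X := X)
  obtain ⟨S, hS, rfl⟩ := exists_multiset k hreg hdim Dv hD
  have hpos : ∀ C ∈ S, 0 < pr k (ClSub.idealMod C) H' := fun C hC => by
    have hCi := isInvertible_curve k hreg hdim (hS C hC)
    haveI := (hS C hC).int
    have hQ : Coh.IsCoh (ClSub.quotMod C) := LeadDev.isCoh_push_structure C.subschemeι
    have hs : CohB1.support (ClSub.quotMod C) = (C.support : Set X) :=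
      (support_push_structure_eq C.subschemeι).trans C.range_subschemeι
    rw [← H28Surf.intNum_eq_pr k hdim hCi hH', H28Surf.intNum_idealMod k hdim.le C hCi hH']
    refine (pos_of_ample k [H'] (List.forall_mem_singleton.2 ⟨H, hH, ⟨e⟩⟩) _ hQ ?_).2
      ⟨C.subschemeι (genericPoint C.subscheme), ?_, ?_⟩
    · rw [hs]; exact (hS C hC).dim.le
    · rw [hs, ← C.range_subschemeι]; exact ⟨_, rfl⟩
    · rw [H8Props.FieldDim.cdim, (hS C hC).closure_gen, (hS C hC).dim]; rfl
  rw [pr_prod_left k hreg hdim S hS hH']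
  induction S using Multiset.induction with
  | empty => exact absurd (by rw [Multiset.prod_zero]; rfl) hne
  | cons C S _ =>
    rw [Multiset.map_cons, Multiset.sum_cons]
    exact add_pos_of_pos_of_nonneg (hpos C (Multiset.mem_cons_self C S)) (Multiset.sum_nonneg fun a ha => by
      obtain ⟨D', hD', rfl⟩ := Multiset.mem_map.1 ha
      exact (hpos D' (Multiset.mem_cons_of_mem hD')).le)

variable [Smooth (X ↘ Spec (CommRingCat.of k))] [IsAlgClosed k]

/-- A numerically positive divisor is numerically connected. -/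
theorem numerically_connected (hdim : topologicalKrullDim X = 2) {Dv D₁ D₂ : X.IdealSheafData}
    (hD₁ : FGA.IsEffCartier D₁) (hD₂ : FGA.IsEffCartier D₂) (hne₁ : D₁ ≠ ⊤) (hne₂ : D₂ ≠ ⊤) (hsum : Dv = D₁ * D₂)
    (hpos : 0 < pr k (ClSub.idealMod Dv) (ClSub.idealMod Dv))
    (hnef : ∀ C : X.IdealSheafData, IsCurve C → 0 ≤ pr k (ClSub.idealMod C) (ClSub.idealMod Dv)) :
    0 < pr k (ClSub.idealMod D₁) (ClSub.idealMod D₂) := by
  have hreg : ∀ x : X, IsRegularLocalRing (X.presheaf.stalk x) :=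
    fun x => H19Grp.isRegularLocalRing_stalk_of_smooth (X ↘ Spec (CommRingCat.of k)) x
  obtain ⟨H, hH⟩ := exists_isAmple k hreg hdim
  obtain ⟨H', hH', ⟨e₀⟩⟩ := H11Sym.exists_inverse (H11Ample.isAmple_iff.1 hH).1
  let eH := H10Coh.Tw.commIso H H' ≪≫ e₀
  have hD : FGA.IsEffCartier Dv := hsum ▸ H28Vert.isEffCartierIdeal_mul hD₁ hD₂
  let I := ClSub.idealMod Dv; let I₁ := ClSub.idealMod D₁; let I₂ := ClSub.idealMod D₂
  have hI := H29Blow.isInvertible_of_isEffCartierIdeal Dv hD
  have hI₁ := H29Blow.isInvertible_of_isEffCartierIdeal D₁ hD₁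
  have hI₂ := H29Blow.isInvertible_of_isEffCartierIdeal D₂ hD₂
  have hDne : Dv ≠ ⊤ := fun h => by
    rw [h, pr_top_left k hdim (by rw [← h]; exact hI)] at hpos
    exact lt_irrefl _ hpos
  obtain ⟨N, hN, ⟨f₀⟩⟩ := H11Sym.exists_inverse hI
  let f := H10Coh.Tw.commIso I N ≪≫ f₀
  -- additivity
  have hadd : ∀ {A : X.Modules}, PicF.IsInvertible A → pr k I A = pr k I₁ A + pr k I₂ A := fun {A} hA => by
    have h := pr_mul_left k hdim hD₁ hD₂ hA
    rwa [← hsum] at h
  have hge : ∀ {E : X.IdealSheafData}, FGA.IsEffCartier E → 0 ≤ pr k I (ClSub.idealMod E) := fun {E} hE => by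
    obtain ⟨S, hS, rfl⟩ := exists_multiset k hreg hdim E hE
    rw [H28Surf.pr_symm k, pr_prod_left k hreg hdim S hS hI]
    exact Multiset.sum_nonneg fun a ha => by
      obtain ⟨C, hC, rfl⟩ := Multiset.mem_map.1 ha
      exact hnef C (hS C hC)
  -- a divisor of square zero orthogonal to `D` is empty
  have hzero : ∀ {E : X.IdealSheafData}, FGA.IsEffCartier E → E ≠ ⊤ →
      pr k I (ClSub.idealMod E) = 0 → pr k (ClSub.idealMod E) (ClSub.idealMod E) = 0 → False := by
    intro E hE hEne h0 h00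
    have hM := H29Blow.isInvertible_of_isEffCartierIdeal E hE
    let M := ClSub.idealMod E
    have hMH : 0 < pr k M H' := pr_eff_ample_pos k hreg hdim hE hEne hH hH' eH
    have hb : 0 < pr k I H' := pr_eff_ample_pos k hreg hdim hD hDne hH hH' eH
    obtain ⟨a, ha⟩ : ∃ a : ℕ, (a : ℤ) = pr k I I := ⟨(pr k I I).toNat, Int.toNat_of_nonneg hpos.le⟩
    obtain ⟨b, hbN⟩ : ∃ b : ℕ, (b : ℤ) = pr k I H' := ⟨(pr k I H').toNat, Int.toNat_of_nonneg hb.le⟩
    let P := CohB1.tensorMod (CohB1.tensorPow H' a) (CohB1.tensorPow N b)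
    have hP : PicF.IsInvertible P :=
      H11Ample.isInvertible_tensor (H11Ample.isInvertible_tensorPow hH' a) (H11Ample.isInvertible_tensorPow hN b)
    have hPA : ∀ {A : X.Modules}, PicF.IsInvertible A → pr k P A = a * pr k H' A - b * pr k I A := fun {A} hA => by
      rw [H28Surf.pr_tensor_left k hdim (H11Ample.isInvertible_tensorPow hH' a) (H11Ample.isInvertible_tensorPow hN b) hA,
        H28Surf.pr_pow_left k hdim hH' hA, H28Surf.pr_pow_left k hdim hN hA, H28Surf.pr_inv_left k hdim hI hN hA f]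
      ring
    have key : ∀ t : ℕ, 2 * (t : ℤ) * pr k P M + pr k P P ≤ 0 := by
      intro t
      let K := CohB1.tensorMod (CohB1.tensorPow M t) P
      have hK : PicF.IsInvertible K := H11Ample.isInvertible_tensor (H11Ample.isInvertible_tensorPow hM t) hP
      have hKA : ∀ {A : X.Modules}, PicF.IsInvertible A → pr k K A = t * pr k M A + pr k P A := fun {A} hA => by
        rw [H28Surf.pr_tensor_left k hdim (H11Ample.isInvertible_tensorPow hM t) hP hA, H28Surf.pr_pow_left k hdim hM hA]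
      have h := H28Surf.pr_self_nonpos_of_orth k hdim hH hI hK hpos (by
        rw [H28Surf.pr_symm k, hKA hI, hPA hI, H28Surf.pr_symm k M I, h0, H28Surf.pr_symm k H' I, ← ha, ← hbN]
        ring)
      rw [hKA hK, H28Surf.pr_symm k M K, hKA hM, h00, H28Surf.pr_symm k P K, hKA hP, H28Surf.pr_symm k M P] at h
      linarith
    rw [hPA hM, h0, H28Surf.pr_symm k H' M, mul_zero, sub_zero] at key
    have hpos' : 0 < pr k I I := hpos
    have ha0 : (1 : ℤ) ≤ a := by omega
    have h := key ((pr k P P).natAbs + 1)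
    have h1 : (1 : ℤ) ≤ a * pr k M H' := by nlinarith
    have h2 : - (pr k P P) ≤ ((pr k P P).natAbs : ℤ) := by omega
    have h3 : (0 : ℤ) ≤ ((pr k P P).natAbs : ℤ) := Int.natCast_nonneg _
    simp only [Nat.cast_add, Nat.cast_one] at h
    generalize ((pr k P P).natAbs : ℤ) = n at h h2 h3
    generalize pr k P P = q at h h2
    generalize (a : ℤ) * pr k M H' = c at h h1
    nlinarith
  -- the inequality
  by_contra hle
  push Not at hle
  have e11 : pr k I I₁ = pr k I₁ I₁ + pr k I₁ I₂ := by rw [hadd hI₁, H28Surf.pr_symm k I₂ I₁]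
  have e22 : pr k I I₂ = pr k I₁ I₂ + pr k I₂ I₂ := hadd hI₂
  have e00 : pr k I I = pr k I I₁ + pr k I I₂ := by
    rw [hadd hI, H28Surf.pr_symm k I₁ I, H28Surf.pr_symm k I₂ I]
  have ha : 0 ≤ pr k I I₁ := hge hD₁
  have hb : 0 ≤ pr k I I₂ := hge hD₂
  obtain ⟨S, hS⟩ : ∃ S : ℕ, (S : ℤ) = pr k I I := ⟨(pr k I I).toNat, Int.toNat_of_nonneg hpos.le⟩
  obtain ⟨T, hT⟩ : ∃ T : ℕ, (T : ℤ) = pr k I I₁ := ⟨(pr k I I₁).toNat, Int.toNat_of_nonneg ha⟩
  let K := CohB1.tensorMod (CohB1.tensorPow I₁ S) (CohB1.tensorPow N T)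
  have hK : PicF.IsInvertible K :=
    H11Ample.isInvertible_tensor (H11Ample.isInvertible_tensorPow hI₁ S) (H11Ample.isInvertible_tensorPow hN T)
  have hKA : ∀ {A : X.Modules}, PicF.IsInvertible A → pr k K A = S * pr k I₁ A - T * pr k I A := fun {A} hA => by
    rw [H28Surf.pr_tensor_left k hdim (H11Ample.isInvertible_tensorPow hI₁ S) (H11Ample.isInvertible_tensorPow hN T) hA,
      H28Surf.pr_pow_left k hdim hI₁ hA, H28Surf.pr_pow_left k hdim hN hA, H28Surf.pr_inv_left k hdim hI hN hA f]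
    ring
  have h := H28Surf.pr_self_nonpos_of_orth k hdim hH hI hK hpos (by
    rw [H28Surf.pr_symm k, hKA hI, H28Surf.pr_symm k I₁ I, ← hS, ← hT]; ring)
  rw [hKA hK, H28Surf.pr_symm k I₁ K, H28Surf.pr_symm k I K, hKA hI₁, hKA hI, H28Surf.pr_symm k I₁ I, ← hS, ← hT] at h
  change pr k I₁ I₂ ≤ 0 at hle
  change 0 < pr k I I at hpos
  have z1 := hzero hD₁ hne₁
  have z2 := hzero hD₂ hne₂
  change pr k I I₁ = 0 → pr k I₁ I₁ = 0 → False at z1
  change pr k I I₂ = 0 → pr k I₂ I₂ = 0 → False at z2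
  generalize pr k I₁ I₁ = a at *
  generalize pr k I₂ I₂ = b at *
  generalize pr k I₁ I₂ = c at *
  generalize pr k I I₁ = A₁ at *
  generalize pr k I I₂ = A₂ at *
  generalize pr k I I = S' at *
  have hab : a * b - c * c ≤ 0 := by
    by_contra hcon
    push Not at hcon
    have h1 : (S : ℤ) * ((S : ℤ) * a - (T : ℤ) * (T : ℤ)) ≤ 0 := by nlinarith
    have h2 : (S : ℤ) * a - (T : ℤ) * (T : ℤ) = a * b - c * c := by rw [hS, hT, e00, e11, e22]; ring
    rw [h2] at h1
    have h3 : 0 < (S : ℤ) := by omega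
    exact absurd h1 (not_le.2 (mul_pos h3 hcon))
  rcases eq_or_lt_of_le ha with h₁ | h₁
  · rcases eq_or_lt_of_le hle with hc | hc
    · exact z1 h₁.symm (by omega)
    · have : (a : ℤ) = -c := by omega
      nlinarith
  rcases eq_or_lt_of_le hb with h₂ | h₂
  · rcases eq_or_lt_of_le hle with hc | hc
    · exact z2 h₂.symm (by omega)
    · have : (b : ℤ) = -c := by omega
      nlinarith
  have ha' : 1 - c ≤ a := by omega
  have hb' : 1 - c ≤ b := by omega
  nlinarith [mul_le_mul ha' hb' (by omega) (by omega)]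

end Groth.Agent.H28Reg
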