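import Groth.Agent.H22Alg.KosTwist
import Groth.Agent.H22Alg.ExactVanish
import Groth.Agent.H22Alg.ESZPush
import Groth.Agent.H22Alg.RegSheaf
import Groth.Agent.H11Tilde.TwistPow
import Groth.Agent.H10Coh.TwistExact
import Groth.Agent.H10Coh.SerreVanishing

/-!
# Regularity on projective space over a ring, for arbitrary modules
-/

set_option autoImplicit false
set_option linter.style.haveILetI false
set_option linter.unusedSectionVars false
set_option backward.isDefEq.respectTransparency.types false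
universe u

open CategoryTheory CategoryTheory.Limits AlgebraicGeometry Opposite TopologicalSpace ZeroObject
open Groth.Agent.H22Alg Groth.Agent.H11Ample Groth.Agent.H11Tilde
attribute [local instance 10000] Groth.Agent.H10Coh.hasSheafifyAb Groth.Agent.H10Coh.hasWeakSheafifyAb Groth.Agent.H10Coh.hasExtAb Groth.Agent.H10Coh.enoughInjAb

namespace Groth.Agent.H28Reg

variable {X : Scheme.{u}}

theorem hh_right {S : ShortComplex X.Modules} (hS : S.ShortExact) (n : ℕ)
    (h₂ : Subsingleton (Coh.HH X S.X₂ n)) (h₁ : Subsingleton (Coh.HH X S.X₁ (n + 1))) :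
    Subsingleton (Coh.HH X S.X₃ n) := by
  haveI := (H10Coh.HHEquiv S.X₂ n).symm.toEquiv.subsingleton
  haveI := (H10Coh.HHEquiv S.X₁ (n + 1)).symm.toEquiv.subsingleton
  exact @Equiv.subsingleton _ _ (H10Coh.HHEquiv S.X₃ n).toEquiv
    (H10Coh.Tw.subsingleton_X₃ (U := (⊤ : X.Opens)) (H10Coh.shortExact_sh hS) (n := n) ‹_› ‹_›)

theorem hh_mid {S : ShortComplex X.Modules} (hS : S.ShortExact) (n : ℕ)
    (h₁ : Subsingleton (Coh.HH X S.X₁ n)) (h₃ : Subsingleton (Coh.HH X S.X₃ n)) :
    Subsingleton (Coh.HH X S.X₂ n) := by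
  haveI := (H10Coh.HHEquiv S.X₁ n).symm.toEquiv.subsingleton
  haveI := (H10Coh.HHEquiv S.X₃ n).symm.toEquiv.subsingleton
  exact @Equiv.subsingleton _ _ (H10Coh.HHEquiv S.X₂ n).toEquiv
    (H10Coh.Tw.subsingleton_X₂ (U := (⊤ : X.Opens)) (H10Coh.shortExact_sh hS) (n := n) ‹_› ‹_›)

theorem hh_iso {M N : X.Modules} (e : M ≅ N) (n : ℕ) (h : Subsingleton (Coh.HH X M n)) : Subsingleton (Coh.HH X N n) := by
  haveI := (H10Coh.HHEquiv M n).symm.toEquiv.subsingleton
  exact @Equiv.subsingleton _ _ (H10Coh.HHEquiv N n).toEquiv (H10Coh.Tw.subsingleton_of_iso e ‹_›)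

/-- Vanishing along a finite exact complex. -/
theorem hh_top {K : ℕ → X.Modules} {d : ∀ j, K j ⟶ K (j + 1)} (w : ∀ j, d j ≫ d (j + 1) = 0)
    (hex : ∀ j, (ShortComplex.mk (d j) (d (j + 1)) (w j)).Exact) (hd0 : Mono (d 0)) (N i : ℕ)
    (hN : IsZero (K (N + 1))) (hK : ∀ j e, j + e + 1 = N → Subsingleton (Coh.HH X (K j) (i + e))) :
    Subsingleton (Coh.HH X (K N) i) := by
  have h : ∀ k e, k + e = N → Subsingleton (Coh.HH X (kernel (d k)) (i + e)) := by
    intro k
    induction k with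
    | zero => exact fun e _ => ESZ.subsingleton_HH_of_isZero ((isZero_zero _).of_iso (kernel.ofMono (d 0))) _
    | succ k ih =>
      intro e he
      exact hh_right (ExactVanish.shortExact_cycles w hex k) (i + e) (hK k e (by omega))
        (show Subsingleton (Coh.HH X _ (i + (e + 1))) from ih (e + 1) (by omega))
  exact hh_iso (kernelIsoOfEq (hN.eq_of_tgt (d N) 0) ≪≫ kernelZeroIsoSource) i
    (h N 0 rfl)

variable {R : Type u} [CommRing R] {n : ℕ}

/-- The coordinates, extended by zero. -/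
noncomputable def coords (n : ℕ) (R : Type u) [CommRing R] (j : ℕ) : Γ(Twist.twistProjSpace n R 1, ⊤) :=
  if h : j < n + 1 then ProjUP.coord n R ⟨j, h⟩ else 0

theorem coords_cover (z : CohB1.ProjSpace n R) :
    ∃ j < n + 1, z ∈ gen (Twist.twistProjSpace n R 1) (coords n R j) := by
  obtain ⟨i, hi⟩ := exists_mem_basicOpen_X (n := n) (R := R) z
  refine ⟨i.1, i.2, ?_⟩
  rw [coords, dif_pos i.2, gen_coord]
  exact hi

/-- F twisted by c and t further times by one. -/
theorem nonempty_A_iso (F : (CohB1.ProjSpace n R).Modules) (c : ℤ) :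
    ∀ (t : ℕ) (a : ℤ), a = c + t →
      Nonempty (KosTwist.A (Twist.twistProjSpace n R 1) (CohB1.tensorMod F (Twist.twistProjSpace n R c)) t ≅
        CohB1.tensorMod F (Twist.twistProjSpace n R a))
  | 0, a, h => by
    obtain rfl : a = c := by simpa using h
    exact ⟨Iso.refl _⟩
  | t + 1, a, h => by
    obtain ⟨e⟩ := nonempty_A_iso F c t (c + t) rfl
    obtain ⟨e'⟩ := H11Tilde.nonempty_twist_tensor_iso (CohB1.polyGrading n R) (RegSheaf.cover n R) (c + t) 1 a
      (by rw [h]; push_cast; ring)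
    exact ⟨PicGrp.tensorModIso e (Iso.refl _) ≪≫ H10Coh.Tw.assoc _ _ _ ≪≫ PicGrp.tensorModIso (Iso.refl F) e'⟩

theorem reg_succ {F : (CohB1.ProjSpace n R).Modules} {m : ℤ}
    (hreg : ∀ i : ℕ, 1 ≤ i → Subsingleton (Coh.HH (CohB1.ProjSpace n R)
      (CohB1.tensorMod F (Twist.twistProjSpace n R (m - i))) i)) (i : ℕ) (hi : 1 ≤ i) :
    Subsingleton (Coh.HH (CohB1.ProjSpace n R) (CohB1.tensorMod F (Twist.twistProjSpace n R (m + 1 - i))) i) := by
  let c : ℤ := m - i - n
  let G := CohB1.tensorMod F (Twist.twistProjSpace n R c)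
  let L := Twist.twistProjSpace n R 1
  have hL : PicF.IsInvertible L := H11Ample.isInvertible_twist
  obtain ⟨h0, hex⟩ := KosTwist.exact (L := L) (G := G) (v := coords n R) hL coords_cover 0
  obtain ⟨a⟩ := nonempty_A_iso F c (n + 1) (m + 1 - i) (by simp only [c]; push_cast; ring)
  refine hh_iso ((@asIso _ _ _ _ _ (KosLine.isIso_top (A := KosTwist.A L G) (n + 1) 0 (n + 1) (Nat.zero_add _))) ≪≫ a) i ?_
  refine hh_top _ hex h0 (n + 1) i (KosLine.isZero_L _ _ _ (by omega)) fun j e hje => ?_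
  refine KosLine.mem_L (A := KosTwist.A L G) (fun M => Subsingleton (Coh.HH (CohB1.ProjSpace n R) M (i + e)))
    (ESZ.subsingleton_HH_of_isZero (isZero_zero _) _)
    (fun M N hM hN => hh_mid (ShortComplex.Splitting.ofHasBinaryBiproduct M N).shortExact (i + e) hM hN)
    (n + 1) 0 j fun _ => ?_
  obtain ⟨b⟩ := nonempty_A_iso F c (0 + j) (m - ((i + e : ℕ) : ℤ)) (by simp only [c]; push_cast; omega)
  exact hh_iso b.symm (i + e) (hreg (i + e) (by omega))

theorem van_of_reg {F : (CohB1.ProjSpace n R).Modules} {m : ℤ}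
    (hreg : ∀ i : ℕ, 1 ≤ i → Subsingleton (Coh.HH (CohB1.ProjSpace n R)
      (CohB1.tensorMod F (Twist.twistProjSpace n R (m - i))) i)) (i : ℕ) (r : ℤ) (hi : 1 ≤ i) (hr : m - i ≤ r) :
    Subsingleton (Coh.HH (CohB1.ProjSpace n R) (CohB1.tensorMod F (Twist.twistProjSpace n R r)) i) := by
  have h : ∀ (t : ℕ) (i : ℕ), 1 ≤ i →
      Subsingleton (Coh.HH (CohB1.ProjSpace n R) (CohB1.tensorMod F (Twist.twistProjSpace n R (m + t - i))) i) := by
    intro t
    induction t with
    | zero => simpa using hreg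
    | succ t ih =>
      intro i hi
      have := reg_succ (m := m + t) ih i hi
      push_cast
      rwa [← add_assoc]
  obtain ⟨t, ht⟩ := Int.eq_ofNat_of_zero_le (show 0 ≤ r - (m - i) by omega)
  rw [show r = m + (t : ℤ) - i by omega]
  exact h t i hi

end Groth.Agent.H28Reg
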